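import Groth.Agent.SerreReg.Regular
import Groth.Agent.RegLoc.Order
import Mathlib

/-!
A Noetherian direct limit of regular rings is regular.
-/

set_option autoImplicit false
set_option linter.style.haveILetI false

namespace Groth.Agent.RegLimit

universe u

open IsLocalRing

/-- Elements which are minimal modulo the square of the maximal ideal cut out regular quotients. -/
theorem regular_quot_span {S R : Type u} [CommRing S] [IsRegularLocalRing S] [CommRing R] [IsLocalRing R]
    (φ : S →+* R) [IsLocalHom φ] {n : ℕ} (x : Fin n → S) (hx : ∀ i, x i ∈ maximalIdeal S)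
    (hmin : ∀ i : Fin n, φ (x i) ∉ Ideal.span (Set.range fun j : {j : Fin n // j < i} => φ (x j)) ⊔ maximalIdeal R ^ 2) :
    ∀ r ≤ n, IsRegularLocalRing (S ⧸ Ideal.span (x '' {i | (i : ℕ) < r})) := by
  intro r
  induction r with
  | zero =>
    intro _
    have : Ideal.span (x '' {i : Fin n | (i : ℕ) < 0}) = ⊥ := by simp
    exact IsRegularLocalRing.of_ringEquiv (R := S)
      ((RingEquiv.quotientBot S).symm.trans (Ideal.quotEquivOfEq this.symm))
  | succ r ih =>
    intro hr
    let i0 : Fin n := ⟨r, hr⟩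
    let I := Ideal.span (x '' {i | (i : ℕ) < r})
    haveI := ih (Nat.le_of_succ_le hr)
    have hI : I ≤ maximalIdeal S := Ideal.span_le.2 (by rintro _ ⟨i, -, rfl⟩; exact hx i)
    have hmap : (maximalIdeal S).map (Ideal.Quotient.mk I) = maximalIdeal (S ⧸ I) :=
      IsLocalRing.map_maximalIdeal_of_surjective _ Ideal.Quotient.mk_surjective
    have hxm : Ideal.Quotient.mk I (x i0) ∈ maximalIdeal (S ⧸ I) := hmap ▸ Ideal.mem_map_of_mem _ (hx i0)
    have hx2 : Ideal.Quotient.mk I (x i0) ∉ maximalIdeal (S ⧸ I) ^ 2 := fun hcon => by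
      rw [← hmap, ← Ideal.map_pow] at hcon
      obtain ⟨y, hy, hyx⟩ := (Ideal.mem_map_iff_of_surjective _ Ideal.Quotient.mk_surjective).1 hcon
      rw [Ideal.Quotient.eq] at hyx
      apply hmin i0
      have h1 : φ (x i0) = φ y - φ (y - x i0) := by rw [← map_sub, sub_sub_cancel]
      rw [h1]
      refine sub_mem (Ideal.mem_sup_right ?_) (Ideal.mem_sup_left ?_)
      · have : (maximalIdeal S).map φ ≤ maximalIdeal R := Ideal.map_le_iff_le_comap.2 fun a ha hu => ha
          (isUnit_of_map_unit φ a hu)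
        exact Ideal.pow_right_mono this 2 (Ideal.map_pow φ (maximalIdeal S) 2 ▸ Ideal.mem_map_of_mem φ hy)
      · have h2 : I.map φ ≤ Ideal.span (Set.range fun j : {j : Fin n // j < i0} => φ (x j)) := by
          rw [Ideal.map_span, Ideal.span_le]
          rintro _ ⟨_, ⟨i, hi, rfl⟩, rfl⟩
          exact Ideal.subset_span ⟨⟨i, hi⟩, rfl⟩
        exact h2 (Ideal.mem_map_of_mem φ hyx)
    obtain ⟨h3, -⟩ := SerreReg.isRegularLocalRing_quot hxm hx2
    haveI := h3
    have hsplit : I ⊔ Ideal.span {x i0} = Ideal.span (x '' {i | (i : ℕ) < r + 1}) := by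
      rw [← Ideal.span_union, ← Set.image_singleton, ← Set.image_union]
      congr 2
      ext i
      simp only [Set.mem_union, Set.mem_setOf_eq, Set.mem_singleton_iff, Fin.ext_iff, i0]
      omega
    exact IsRegularLocalRing.of_ringEquiv (R := (S ⧸ I) ⧸ Ideal.span {Ideal.Quotient.mk I (x i0)})
      (((Ideal.quotEquivOfEq (by rw [Ideal.map_span, Set.image_singleton])).trans
        (DoubleQuot.quotQuotEquivQuotSup I (Ideal.span {x i0}))).trans (Ideal.quotEquivOfEq hsplit))

/-- A Noetherian local ring approximated by regular local rings is regular. -/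
theorem regular_of_approx {R : Type u} [CommRing R] [IsLocalRing R] [IsNoetherianRing R]
    (h : ∀ (r : ℕ) (a b : R) (c x : Fin r → R), a * b = ∑ i, c i * x i →
      ∃ (S : Type u) (_ : CommRing S) (φ : S →+* R) (a' b' : S) (c' x' : Fin r → S),
        IsRegularLocalRing S ∧ IsLocalHom φ ∧ φ a' = a ∧ φ b' = b ∧ (∀ i, φ (c' i) = c i) ∧ (∀ i, φ (x' i) = x i) ∧
          a' * b' = ∑ i, c' i * x' i) :
    IsRegularLocalRing R := by
  obtain ⟨g, hg, hgs⟩ := Submodule.FG.exists_span_finset_card_eq_spanFinrank (IsNoetherian.noetherian (maximalIdeal R))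
  let n := g.card
  let x : Fin n → R := fun i => (g.equivFin.symm i : R)
  have hxinj : Function.Injective x := fun i j hij => g.equivFin.symm.injective (Subtype.ext hij)
  have hxrange : Set.range x = (g : Set R) := by
    ext z
    exact ⟨fun ⟨i, hi⟩ => hi ▸ (g.equivFin.symm i).2, fun hz => ⟨g.equivFin ⟨z, hz⟩, by simp [x]⟩⟩
  have hxm : ∀ i, x i ∈ maximalIdeal R := fun i => hgs ▸ Submodule.subset_span (g.equivFin.symm i).2
  have hmin : ∀ i : Fin n, x i ∉ Ideal.span (Set.range fun j : {j : Fin n // j < i} => x j) ⊔ maximalIdeal R ^ 2 := by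
    classical
    intro i hi
    let N : Ideal R := Ideal.span ((g.erase (x i) : Finset R) : Set R)
    have h1 : maximalIdeal R ≤ N ⊔ maximalIdeal R • maximalIdeal R := by
      conv_lhs => rw [← hgs]
      refine Submodule.span_le.2 fun z hz => ?_
      by_cases hzi : z = x i
      · subst hzi
        rw [smul_eq_mul, ← pow_two]
        refine (sup_le (le_sup_of_le_left (Ideal.span_le.2 ?_)) le_sup_right : _ ≤ N ⊔ maximalIdeal R ^ 2) hi
        rintro _ ⟨⟨j, hj⟩, rfl⟩
        exact Ideal.subset_span (Finset.mem_erase.2 ⟨hxinj.ne hj.ne, (g.equivFin.symm j).2⟩)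
      · exact Ideal.mem_sup_left (Ideal.subset_span (Finset.mem_erase.2 ⟨hzi, hz⟩))
    have h2 : maximalIdeal R ≤ N := Submodule.le_of_le_smul_of_le_jacobson_bot (IsNoetherian.noetherian _)
      (maximalIdeal_le_jacobson _) h1
    have h3 : maximalIdeal R = Ideal.span ((g.erase (x i) : Finset R) : Set R) :=
      le_antisymm h2 (Ideal.span_le.2 fun z hz => hgs ▸ Submodule.subset_span (Finset.mem_of_mem_erase hz))
    have h4 : (maximalIdeal R).spanFinrank ≤ (g.erase (x i)).card := by
      conv_lhs => rw [h3]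
      exact (Submodule.spanFinrank_span_le_ncard_of_finite (Finset.finite_toSet _)).trans
        (Set.ncard_coe_finset _).le
    rw [← hg, Finset.card_erase_of_mem (g.equivFin.symm i).2] at h4
    have : 0 < n := i.pos
    omega
  let P : ∀ r, r ≤ n → Ideal R := fun r hr => Ideal.span (Set.range fun i : Fin r => x (Fin.castLE hr i))
  have hprime : ∀ r (hr : r ≤ n), (P r hr).IsPrime := fun r hr => by
    refine Ideal.isPrime_iff.2 ⟨ne_top_of_le_ne_top (maximalIdeal.isMaximal R).ne_top
      (Ideal.span_le.2 (by rintro _ ⟨i, rfl⟩; exact hxm _)), fun {a b} hab => ?_⟩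
    obtain ⟨c, hc⟩ := (Submodule.mem_span_range_iff_exists_fun R).1 hab
    simp only [smul_eq_mul] at hc
    obtain ⟨S, _, φ, a', b', c', x', _, _, ha, hb, -, hx', heq⟩ :=
      h r a b c (fun i => x (Fin.castLE hr i)) hc.symm
    have hx'm : ∀ i, x' i ∈ maximalIdeal S := fun i hu => (hxm (Fin.castLE hr i)) (hx' i ▸ hu.map φ)
    have hmin' : ∀ i : Fin r, φ (x' i) ∉
        Ideal.span (Set.range fun j : {j : Fin r // j < i} => φ (x' j)) ⊔ maximalIdeal R ^ 2 := fun i hi => by
      simp only [hx'] at hi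
      apply hmin (Fin.castLE hr i)
      have hle : Ideal.span (Set.range fun j : {j : Fin r // j < i} => x (Fin.castLE hr j.1)) ≤
          Ideal.span (Set.range fun j : {j : Fin n // j < Fin.castLE hr i} => x j) := by
        rw [Ideal.span_le]
        rintro _ ⟨⟨j, hj⟩, rfl⟩
        exact Ideal.subset_span ⟨⟨Fin.castLE hr j, hj⟩, rfl⟩
      exact (sup_le_sup_right hle (maximalIdeal R ^ 2) : _) hi
    haveI := regular_quot_span φ x' hx'm hmin' r le_rfl
    have hset : x' '' {i | (i : ℕ) < r} = Set.range x' := by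
      rw [← Set.image_univ]
      congr 1
      ext i
      simp
    haveI := RegLoc.isDomain (A := S ⧸ Ideal.span (x' '' {i | (i : ℕ) < r}))
    have hP : (Ideal.span (Set.range x')).IsPrime := hset ▸ (Ideal.Quotient.isDomain_iff_prime _).1 inferInstance
    have hmem : a' * b' ∈ Ideal.span (Set.range x') := heq ▸ sum_mem fun i _ =>
      Ideal.mul_mem_left _ _ (Ideal.subset_span ⟨i, rfl⟩)
    have hle : (Ideal.span (Set.range x')).map φ ≤ P r hr := by
      rw [Ideal.map_span, ← Set.range_comp]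
      exact le_of_eq (congrArg Ideal.span (congrArg Set.range (funext hx')))
    rcases hP.mem_or_mem hmem with h' | h'
    · exact Or.inl (ha ▸ hle (Ideal.mem_map_of_mem φ h'))
    · exact Or.inr (hb ▸ hle (Ideal.mem_map_of_mem φ h'))
  let s : LTSeries (PrimeSpectrum R) :=
    { length := n
      toFun := fun r => ⟨P r (Nat.lt_succ_iff.1 r.2), hprime r _⟩
      step := fun r => by
        change P r _ < P (r + 1) _
        refine lt_of_le_not_ge (Ideal.span_le.2 ?_) fun hge => ?_
        · rintro _ ⟨i, rfl⟩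
          exact Ideal.subset_span ⟨⟨i, Nat.lt_succ_of_lt i.2⟩, rfl⟩
        · apply hmin (⟨r, r.2⟩ : Fin n)
          refine Ideal.mem_sup_left ((le_trans hge (Ideal.span_le.2 ?_)) (Ideal.subset_span ⟨⟨r, Nat.lt_succ_self _⟩, rfl⟩))
          rintro _ ⟨i, rfl⟩
          exact Ideal.subset_span ⟨⟨Fin.castLE r.2.le i, i.2⟩, rfl⟩ }
  refine IsRegularLocalRing.of_spanFinrank_maximalIdeal_le R ?_
  rw [← hg]
  exact Order.LTSeries.length_le_krullDim s

/-- A Noetherian direct limit of regular rings is regular. -/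
theorem isRegularRing_directLimit (ι : Type u) [Preorder ι] [Nonempty ι] [IsDirectedOrder ι] (G : ι → Type u)
    [∀ i, CommRing (G i)] (f : ∀ i j, i ≤ j → G i →+* G j) [DirectedSystem G (fun i j h ↦ f i j h)]
    (hreg : ∀ i, IsRegularRing (G i)) [IsNoetherianRing (Ring.DirectLimit G (fun i j h ↦ f i j h))] :
    IsRegularRing (Ring.DirectLimit G (fun i j h ↦ f i j h)) := by
  classical
  refine isRegularRing_iff.2 fun Q hQ => ?_
  let L := Ring.DirectLimit G (fun i j h ↦ f i j h)
  let RQ := Localization.AtPrime Q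
  haveI : IsNoetherianRing RQ := IsLocalization.isNoetherianRing Q.primeCompl RQ inferInstance
  let o : ∀ i, G i →+* L := Ring.DirectLimit.of G (fun i j h ↦ f i j h)
  let q : ∀ i, Ideal (G i) := fun i => Q.comap (o i)
  let φ : ∀ i, Localization.AtPrime (q i) →+* RQ := fun i => Localization.localRingHom (q i) Q (o i) rfl
  have hqq : ∀ i j (h : i ≤ j), q i = (q j).comap (f i j h) := fun i j h => by
    ext z
    show o i z ∈ Q ↔ o j (f i j h z) ∈ Q
    rw [show o j (f i j h z) = o i z from Ring.DirectLimit.of_f (G := G) (f := fun i j h ↦ f i j h) h z]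
  let τ : ∀ i j (h : i ≤ j), Localization.AtPrime (q i) →+* Localization.AtPrime (q j) :=
    fun i j h => Localization.localRingHom (q i) (q j) (f i j h) (hqq i j h)
  have hτ : ∀ i j (h : i ≤ j) z, φ j (τ i j h z) = φ i z := fun i j h z => by
    obtain ⟨a, ⟨t, ht⟩, rfl⟩ := IsLocalization.exists_mk'_eq (q i).primeCompl z
    rw [Localization.localRingHom_mk', Localization.localRingHom_mk', Localization.localRingHom_mk']
    congr 1
    · exact Ring.DirectLimit.of_f (G := G) (f := fun i j h ↦ f i j h) h a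
    · exact Subtype.ext (Ring.DirectLimit.of_f (G := G) (f := fun i j h ↦ f i j h) h t)
  have hsurj : ∀ z : RQ, ∃ i y, φ i y = z := fun z => by
    obtain ⟨a, ⟨t, ht⟩, rfl⟩ := IsLocalization.exists_mk'_eq Q.primeCompl z
    obtain ⟨i1, a', ha'⟩ := Ring.DirectLimit.exists_of a
    obtain ⟨i2, t', ht'⟩ := Ring.DirectLimit.exists_of t
    obtain ⟨j, h1, h2⟩ := directed_of (· ≤ ·) i1 i2
    have e1 : o j (f i1 j h1 a') = a := (Ring.DirectLimit.of_f (G := G) (f := fun i j h ↦ f i j h) h1 a').trans ha'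
    have e2 : o j (f i2 j h2 t') = t := (Ring.DirectLimit.of_f (G := G) (f := fun i j h ↦ f i j h) h2 t').trans ht'
    refine ⟨j, IsLocalization.mk' _ (f i1 j h1 a') (⟨f i2 j h2 t', show o j (f i2 j h2 t') ∉ Q from e2.symm ▸ ht⟩ :
      (q j).primeCompl), ?_⟩
    rw [Localization.localRingHom_mk']
    congr 1
    exact Subtype.ext e2
  have hzero : ∀ i z, φ i z = 0 → ∃ j h, τ i j h z = 0 := fun i z hz => by
    obtain ⟨a, ⟨t, ht⟩, rfl⟩ := IsLocalization.exists_mk'_eq (q i).primeCompl z
    rw [Localization.localRingHom_mk', IsLocalization.mk'_eq_zero_iff] at hz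
    obtain ⟨⟨u, hu⟩, hua⟩ := hz
    obtain ⟨i', u', hu'⟩ := Ring.DirectLimit.exists_of u
    obtain ⟨j, h1, h2⟩ := directed_of (· ≤ ·) i i'
    have h0 : o j (f i' j h2 u' * f i j h1 a) = 0 := by
      rw [map_mul, Ring.DirectLimit.of_f (G := G) (f := fun i j h ↦ f i j h) h2 u',
        Ring.DirectLimit.of_f (G := G) (f := fun i j h ↦ f i j h) h1 a, hu']
      exact hua
    obtain ⟨k, hk, hk0⟩ := Ring.DirectLimit.of.zero_exact (f' := fun i j h ↦ f i j h) h0
    refine ⟨k, h1.trans hk, ?_⟩
    rw [Localization.localRingHom_mk', IsLocalization.mk'_eq_zero_iff]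
    refine ⟨⟨f i' k (h2.trans hk) u', show o k (f i' k (h2.trans hk) u') ∉ Q from ?_⟩, ?_⟩
    · rw [Ring.DirectLimit.of_f (G := G) (f := fun i j h ↦ f i j h) (h2.trans hk) u', hu']
      exact hu
    · rw [map_mul, DirectedSystem.map_map' (fun i j h ↦ f i j h), DirectedSystem.map_map' (fun i j h ↦ f i j h)] at hk0
      exact hk0
  refine regular_of_approx fun r a b c x heq => ?_
  choose I Y hY using hsurj
  let T : Finset ι := {I a, I b} ∪ Finset.univ.image (fun i => I (c i)) ∪ Finset.univ.image (fun i => I (x i))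
  obtain ⟨j, hj⟩ := T.exists_le
  have hja : I a ≤ j := hj _ (by simp [T])
  have hjb : I b ≤ j := hj _ (by simp [T])
  have hjc : ∀ i, I (c i) ≤ j := fun i => hj _ (by simp [T])
  have hjx : ∀ i, I (x i) ≤ j := fun i => hj _ (by simp [T])
  let a1 := τ _ j hja (Y a)
  let b1 := τ _ j hjb (Y b)
  let c1 : Fin r → Localization.AtPrime (q j) := fun i => τ _ j (hjc i) (Y (c i))
  let x1 : Fin r → Localization.AtPrime (q j) := fun i => τ _ j (hjx i) (Y (x i))
  have ea : φ j a1 = a := (hτ _ _ _ _).trans (hY a)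
  have eb : φ j b1 = b := (hτ _ _ _ _).trans (hY b)
  have ec : ∀ i, φ j (c1 i) = c i := fun i => (hτ _ _ _ _).trans (hY _)
  have ex : ∀ i, φ j (x1 i) = x i := fun i => (hτ _ _ _ _).trans (hY _)
  have h0 : φ j (a1 * b1 - ∑ i, c1 i * x1 i) = 0 := by
    rw [map_sub, map_mul, map_sum, ea, eb]
    simp only [map_mul, ec, ex]
    rw [heq, sub_self]
  obtain ⟨k, hk, hk0⟩ := hzero j _ h0
  rw [map_sub, map_mul, map_sum, sub_eq_zero] at hk0
  simp only [map_mul] at hk0
  haveI := hreg k
  exact ⟨Localization.AtPrime (q k), inferInstance, φ k, τ j k hk a1, τ j k hk b1, fun i => τ j k hk (c1 i),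
    fun i => τ j k hk (x1 i), IsRegularRing.isRegularLocalRing_localization (q k),
    Localization.isLocalHom_localRingHom _ _ _ rfl, (hτ _ _ _ _).trans ea, (hτ _ _ _ _).trans eb,
    fun i => (hτ _ _ _ _).trans (ec i), fun i => (hτ _ _ _ _).trans (ex i), hk0⟩

end Groth.Agent.RegLimit
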